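import Groth.Agent.Lib.Helper23.LocConstAb.LB
import Mathlib.CategoryTheory.Sites.Over
import Mathlib.CategoryTheory.Sites.ConstantSheaf
import Mathlib.CategoryTheory.Sites.Localization

/-!
# From `LB` to isomorphisms with constant sheaves on the over-site, and back
-/

namespace Groth.Agent.Lib.Helper23.LocConstAb

universe w v u
open CategoryTheory Opposite
open Groth.Agent.Lib.Helper23.LocConst (Loc)

variable {C : Type u} [Category.{v} C] {J : GrothendieckTopology C}

section

variable (F : Sheaf J AddCommGrpCat.{w}) (U : C) {M : Type w} [AddCommGroup M]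
  (α : M →ₗ[ℤ] Sec F U)

/-- The map from the constant presheaf with value `M` on `C/U` to `F|_U` induced by `α`. -/
def constMap : (Functor.const (Over U)ᵒᵖ).obj (AddCommGrpCat.of M) ⟶ (F.over U).obj where
  app Y := AddCommGrpCat.ofHom ((res F Y.unop.hom).comp α).toAddMonoidHom
  naturality Y Z f := by
    ext m
    have hw : f.unop.left ≫ Y.unop.hom = Z.unop.hom := Over.w f.unop
    change res F Z.unop.hom (α m) = res F f.unop.left (res F Y.unop.hom (α m))
    rw [← res_comp, hw]

lemma constMap_app_apply (Y : Over U) (m : M) :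
    ((constMap F U α).app (op Y)).hom m = res F Y.hom (α m) := rfl

variable {F U α}

lemma isLocallyInjective_constMap (hα : LB J F U α) :
    Presheaf.IsLocallyInjective (J.over U) (constMap F U α) where
  equalizerSieve_mem {Y} x y h := by
    have h0 : res F Y.unop.hom (α (x - y)) = 0 := by
      have h' : res F Y.unop.hom (α x) = res F Y.unop.hom (α y) := h
      rw [map_sub, map_sub, h', sub_self]
    obtain ⟨S, hS, hSx⟩ := hα.inj Y.unop.hom (x - y) h0
    refine (J.over U).superset_covering ?_ (J.overEquiv_symm_mem_over Y.unop S hS)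
    intro Z f hf
    have : x = y := sub_eq_zero.1 (hSx f.left hf)
    subst this
    rfl

lemma isLocallySurjective_constMap (hα : LB J F U α) :
    Presheaf.IsLocallySurjective (J.over U) (constMap F U α) where
  imageSieve_mem {Y} s := by
    obtain ⟨S, hS, hSx⟩ := hα.surj Y.hom (s : Sec F Y.left)
    refine (J.over U).superset_covering ?_ (J.overEquiv_symm_mem_over Y S hS)
    intro Z f hf
    obtain ⟨m, hm⟩ := hSx f.left hf
    refine ⟨m, ?_⟩
    have hw : f.left ≫ Y.hom = Z.hom := Over.w f
    change res F Z.hom (α m) = res F f.left s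
    rw [← hw]; exact hm

lemma LB.of_isLocallyBijective
    (h1 : Presheaf.IsLocallyInjective (J.over U) (constMap F U α))
    (h2 : Presheaf.IsLocallySurjective (J.over U) (constMap F U α)) : LB J F U α where
  inj V g m hm := by
    have hm' : (constMap F U α).app (op (Over.mk g)) m = (constMap F U α).app (op (Over.mk g)) 0 := by
      change res F g (α m) = res F g (α 0)
      rw [hm, map_zero, map_zero]
    have := Presheaf.equalizerSieve_mem (J.over U) (constMap F U α) (X := op (Over.mk g)) m 0 hm'
    rw [GrothendieckTopology.mem_over_iff] at this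
    refine ⟨_, this, ?_⟩
    intro W h hh
    rw [Sieve.overEquiv_iff] at hh
    exact hh
  surj V g s := by
    have := Presheaf.imageSieve_mem (J.over U) (constMap F U α) (U := op (Over.mk g)) s
    rw [GrothendieckTopology.mem_over_iff] at this
    refine ⟨_, this, ?_⟩
    intro W h hh
    rw [Sieve.overEquiv_iff] at hh
    obtain ⟨m, hm⟩ := hh
    exact ⟨m, hm⟩

end

section Iso

variable (F : Sheaf J AddCommGrpCat.{w}) (U : C) {M : Type w} [AddCommGroup M]
  (α : M →ₗ[ℤ] Sec F U)
  [HasWeakSheafify (J.over U) AddCommGrpCat.{w}]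

/-- The morphism of sheaves on `C/U` from the constant sheaf with value `M` to `F|_U` induced by `α`. -/
noncomputable def constSheafMap :
    (constantSheaf (J.over U) AddCommGrpCat.{w}).obj (AddCommGrpCat.of M) ⟶ F.over U :=
  ((sheafificationAdjunction (J.over U) AddCommGrpCat.{w}).homEquiv _ _).symm (constMap F U α)

lemma constSheafMap_eq :
    constSheafMap F U α = (presheafToSheaf (J.over U) AddCommGrpCat.{w}).map (constMap F U α) ≫
      (sheafificationAdjunction (J.over U) AddCommGrpCat.{w}).counit.app (F.over U) :=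
  Adjunction.homEquiv_counit _ _ _ _

variable {F U α}
variable [(J.over U).WEqualsLocallyBijective AddCommGrpCat.{w}]

lemma isIso_constSheafMap (hα : LB J F U α) : IsIso (constSheafMap F U α) := by
  rw [constSheafMap_eq]
  have := isLocallyInjective_constMap hα
  have := isLocallySurjective_constMap hα
  have hW : (J.over U).W (constMap F U α) := (J.over U).W_of_isLocallyBijective _
  have h1 : IsIso ((presheafToSheaf (J.over U) AddCommGrpCat.{w}).map (constMap F U α)) :=
    ((J.over U).W_iff _).1 hW
  have h2 : IsIso ((sheafificationAdjunction (J.over U) AddCommGrpCat.{w}).counit.app (F.over U)) :=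
    isIso_sheafificationAdjunction_counit _
  exact @IsIso.comp_isIso _ _ _ _ _ _ _ h1 h2

lemma LB.of_isIso (h : IsIso (constSheafMap F U α)) : LB J F U α := by
  rw [constSheafMap_eq] at h
  have h2 : IsIso ((sheafificationAdjunction (J.over U) AddCommGrpCat.{w}).counit.app (F.over U)) :=
    isIso_sheafificationAdjunction_counit _
  have h1 : IsIso ((presheafToSheaf (J.over U) AddCommGrpCat.{w}).map (constMap F U α)) :=
    @IsIso.of_isIso_comp_right _ _ _ _ _ _ _ h2 h
  have hW : (J.over U).W (constMap F U α) := ((J.over U).W_iff _).2 h1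
  exact LB.of_isLocallyBijective hW.isLocallyInjective hW.isLocallySurjective

/-- From `LB` to an isomorphism with a constant sheaf. -/
noncomputable def isoOfLB (hα : LB J F U α) :
    (constantSheaf (J.over U) AddCommGrpCat.{w}).obj (AddCommGrpCat.of M) ≅ F.over U :=
  haveI := isIso_constSheafMap hα
  asIso (constSheafMap F U α)

@[simp] lemma isoOfLB_hom (hα : LB J F U α) : (isoOfLB hα).hom = constSheafMap F U α := rfl

variable (F U) in
/-- From an isomorphism with a constant sheaf to `LB`. -/
lemma exists_LB_of_iso (M : Type w) [AddCommGroup M]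
    (e : F.over U ≅ (constantSheaf (J.over U) AddCommGrpCat.{w}).obj (AddCommGrpCat.of M)) :
    ∃ α : M →ₗ[ℤ] Sec F U, LB J F U α := by
  let δ : (Functor.const (Over U)ᵒᵖ).obj (AddCommGrpCat.of M) ⟶ (F.over U).obj :=
    (sheafificationAdjunction (J.over U) AddCommGrpCat.{w}).homEquiv _ _ e.inv
  let α : M →ₗ[ℤ] Sec F U := (δ.app (op (Over.mk (𝟙 U)))).hom.toIntLinearMap
  have hδ : δ = constMap F U α := by
    ext Y m
    let t : Y.unop ⟶ Over.mk (𝟙 U) := Over.homMk Y.unop.hom
    have := congrArg (fun k => k.hom m) (δ.naturality t.op)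
    exact this
  refine ⟨α, LB.of_isIso ?_⟩
  have : constSheafMap F U α = e.inv := by
    rw [constSheafMap, ← hδ]
    exact Equiv.symm_apply_apply _ _
  rw [this]
  infer_instance

end Iso

section Compat

variable {F G : Sheaf J AddCommGrpCat.{w}} (φ : F ⟶ G) {U : C}
  {M N : Type w} [AddCommGroup M] [AddCommGroup N]
  {α : M →ₗ[ℤ] Sec F U} {β : N →ₗ[ℤ] Sec G U}
  [HasWeakSheafify (J.over U) AddCommGrpCat.{w}]

lemma constMap_comp (ψ : M →ₗ[ℤ] N) (hψ : ∀ m, app φ U (α m) = β (ψ m)) :
    constMap F U α ≫ ((J.overPullback AddCommGrpCat.{w} U).map φ).hom =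
      (Functor.const (Over U)ᵒᵖ).map (AddCommGrpCat.ofHom ψ.toAddMonoidHom) ≫ constMap G U β := by
  ext Y m
  change app φ Y.unop.left (res F Y.unop.hom (α m)) = res G Y.unop.hom (β (ψ m))
  rw [app_res, hψ]

lemma constSheafMap_comp (ψ : M →ₗ[ℤ] N) (hψ : ∀ m, app φ U (α m) = β (ψ m)) :
    constSheafMap F U α ≫ (J.overPullback AddCommGrpCat.{w} U).map φ =
      (constantSheaf (J.over U) AddCommGrpCat.{w}).map (AddCommGrpCat.ofHom ψ.toAddMonoidHom) ≫
        constSheafMap G U β := by
  have h1 := (sheafificationAdjunction (J.over U) AddCommGrpCat.{w}).homEquiv_naturality_right_symm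
    (Y := F.over U) (Y' := G.over U) (constMap F U α) ((J.overPullback AddCommGrpCat.{w} U).map φ)
  have h2 := (sheafificationAdjunction (J.over U) AddCommGrpCat.{w}).homEquiv_naturality_left_symm
    (Y := G.over U) ((Functor.const (Over U)ᵒᵖ).map (AddCommGrpCat.ofHom ψ.toAddMonoidHom)) (constMap G U β)
  exact h1.symm.trans ((congrArg _ (constMap_comp φ ψ hψ)).trans h2)

end Compat

end Groth.Agent.Lib.Helper23.LocConstAb
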