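import Groth.Agent.Lib.Helper23.LocConst.Loc
import Mathlib.Algebra.Category.Grp.Basic
import Mathlib.Algebra.Module.LinearMap.Defs

/-!
# Sections of sheaves of abelian groups, as `ℤ`-linear data (port of `LocConst.Loc`)
-/

namespace Groth.Agent.Lib.Helper23.LocConstAb

universe w v u
open CategoryTheory Opposite
open Groth.Agent.Lib.Helper23.LocConst (Loc)

variable {C : Type u} [Category.{v} C] {J : GrothendieckTopology C}

section Sections


/-- Sections of a sheaf of modules over `V`. -/
abbrev Sec (F : Sheaf J AddCommGrpCat.{w}) (V : C) : Type w := F.obj.obj (op V)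

/-- Restriction of sections, as a linear map. -/
def res (F : Sheaf J AddCommGrpCat.{w}) {V U : C} (g : V ⟶ U) : Sec F U →ₗ[ℤ] Sec F V :=
  (F.obj.map g.op).hom.toIntLinearMap

/-- A morphism of sheaves on sections, as a linear map. -/
def app {F G : Sheaf J AddCommGrpCat.{w}} (φ : F ⟶ G) (V : C) : Sec F V →ₗ[ℤ] Sec G V :=
  (φ.hom.app (op V)).hom.toIntLinearMap

@[simp] lemma res_id (F : Sheaf J AddCommGrpCat.{w}) (U : C) (s : Sec F U) :
    res F (𝟙 U) s = s := by
  simp [res]

lemma res_comp (F : Sheaf J AddCommGrpCat.{w}) {W V U : C} (h : W ⟶ V) (g : V ⟶ U) (s : Sec F U) :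
    res F (h ≫ g) s = res F h (res F g s) := by
  simp [res]

lemma app_res {F G : Sheaf J AddCommGrpCat.{w}} (φ : F ⟶ G) {V U : C} (g : V ⟶ U) (s : Sec F U) :
    app φ V (res F g s) = res G g (app φ U s) := by
  have := congrArg (fun k => k.hom s) (φ.hom.naturality g.op)
  simpa [app, res] using this

lemma app_comp {F G H : Sheaf J AddCommGrpCat.{w}} (φ : F ⟶ G) (ψ : G ⟶ H) (V : C) (s : Sec F V) :
    app (φ ≫ ψ) V s = app ψ V (app φ V s) := by
  simp [app]

lemma app_zero {F G : Sheaf J AddCommGrpCat.{w}} (V : C) (s : Sec F V) :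
    app (0 : F ⟶ G) V s = 0 := by
  simp [app]

variable [J.HasSheafCompose (forget AddCommGrpCat.{w})]

/-- A section which is locally zero is zero. -/
lemma eq_zero_of_loc (F : Sheaf J AddCommGrpCat.{w}) {V : C} (s : Sec F V)
    (h : Loc J V (fun _ g => res F g s = 0)) : s = 0 := by
  obtain ⟨S, hS, hs⟩ := h
  have hsh := (isSheaf_iff_isSheaf_of_type J _).1
    ((sheafCompose J (forget AddCommGrpCat.{w})).obj F).2
  refine (hsh.isSeparated _ hS).ext (fun Y f hf => ?_)
  have h1 := hs f hf
  change res F f s = res F f 0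
  rw [h1, map_zero]

lemma eq_of_loc (F : Sheaf J AddCommGrpCat.{w}) {V : C} (s t : Sec F V)
    (h : Loc J V (fun _ g => res F g s = res F g t)) : s = t := by
  rw [← sub_eq_zero]
  apply eq_zero_of_loc
  exact h.mono (fun W g hg => by rw [map_sub, hg, sub_self])

end Sections

end Groth.Agent.Lib.Helper23.LocConstAb
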